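/-
Package B2 of the symmetric S3-amalgam lemma (helper71's project for S2953):
the critical index `1` (`b = 2`) is impossible.
-/
import Mathlib
import Cfsg.Agent.Lib.Helper71.Sym.Defs

set_option autoImplicit false

namespace Cfsg.Agent.Lib.Helper47.Sym

open Cfsg.Agent.Lib.Helper71.Sym

universe u

/-- The "fourth power" `e e (e e)` of a conjugate. -/
theorem conj_four {G : Type*} [Group G] (a e : G) :
    (a * e * a⁻¹) * (a * e * a⁻¹) * ((a * e * a⁻¹) * (a * e * a⁻¹)) =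
      a * (e * e * (e * e)) * a⁻¹ := by
  group

theorem pkgB2 : PkgB2.{u} := by
  intro G _ _ H T Q x hA hZF w hL hC3 hcrit hCR hC7 hSB hc
  -- basic facts
  have hxxT : x * x ∈ T := hA.hx2
  have hxxH : x * x ∈ H := hA.hTH hxxT
  have hxT' : ∀ t ∈ T, x⁻¹ * t * x ∈ T := by
    intro t ht
    let f : T → T := fun s => ⟨x * s * x⁻¹, hA.hxT s s.2⟩
    have hf : Function.Injective f := by
      intro a b hab
      have h1 : x * (a : G) * x⁻¹ = x * (b : G) * x⁻¹ := congrArg Subtype.val hab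
      apply Subtype.ext
      have h2 : (a : G) = x⁻¹ * (x * (a : G) * x⁻¹) * x := by group
      rw [h2, h1]; group
    obtain ⟨s, hs⟩ := (Finite.injective_iff_surjective.mp hf) ⟨t, ht⟩
    have h1 : x * (s : G) * x⁻¹ = t := congrArg Subtype.val hs
    have h2 : x⁻¹ * t * x = s := by rw [← h1]; group
    rw [h2]; exact s.2
  have hx0 : x ∈ Wd H x 0 := by
    show x ∈ ({x} : Set G)
    exact rfl
  have hZxQ : Zs H T ≤ cj x Q := hcrit.2 0 (by norm_num) x hx0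
  have hxZQ : ∀ a ∈ Zs H T, x * a * x⁻¹ ∈ Q := by
    intro a ha
    have h1 := hZxQ (hZF.conj_H (x * x) hxxH a ha)
    rw [mem_cj] at h1
    have h2 : x⁻¹ * (x * x * a * (x * x)⁻¹) * x = x * a * x⁻¹ := by group
    rwa [h2] at h1
  have hWd1 : ∀ m ∈ H, x * m * x ∈ Wd H x 1 := fun m hm => ⟨x, hx0, m, hm, rfl⟩
  have hcritAll : ∀ m ∈ H, m ∉ T → ¬ Zs H T ≤ cj (x * m * x) Q := by
    obtain ⟨g, hg, hgc⟩ := hcrit.1
    obtain ⟨u, hu, h, hh, hgeq⟩ : ∃ u ∈ Wd H x 0, ∃ h ∈ H, g = u * h * x := hg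
    have hux : u = x := by
      have : u ∈ ({x} : Set G) := hu
      simpa using this
    rw [hgeq, hux] at hgc
    intro m hm hmT
    exact hSB x hx0 h hh hgc m hm hmT
  obtain ⟨j, hjH, _, _, hjT, _, _⟩ := hZF.two_cosets
  have hjinvT : j⁻¹ ∉ T := fun h => hjT (by simpa using T.inv_mem h)
  have hjinvH : j⁻¹ ∈ H := H.inv_mem hjH
  -- the element c = x w x⁻¹
  have hc' : x * w * x⁻¹ ∈ Zs H T ⊓ Subgroup.centralizer (H : Set G) := hc
  have hcC := Subgroup.mem_centralizer_iff.mp (Subgroup.mem_inf.mp hc').2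
  have hw2 : w * w = 1 := hZF.sq w hL.w_mem
  have hwinv : w⁻¹ = w := inv_eq_of_mul_eq_one_right hw2
  have hc1 : x * w * x⁻¹ ≠ 1 := by
    intro h
    apply hL.w_ne
    have : w = x⁻¹ * (x * w * x⁻¹) * x := by group
    rw [this, h]; group
  have hcw : x * w * x⁻¹ ≠ w := by
    intro h
    rw [h] at hc'
    have := Subgroup.mem_centralizer_iff.mp (Subgroup.mem_inf.mp hc').2 j hjH
    exact hjT (hL.w_cent j hjH this)
  -- FIX lemma
  have hFIX : ∀ a₁ ∈ Zs H T, ∀ s₁ ∈ T, s₁ ∉ Q → s₁ * a₁ = a₁ * s₁ →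
      x⁻¹ * (j * x * a₁ * (j * x)⁻¹) * x ∈ Q := by
    intro a₁ ha₁ s₁ hs₁T hs₁Q hcomm
    have hcentT : ∀ t' ∈ T, a₁ * t' = t' * a₁ := by
      intro t' ht'
      rcases hL.fix_T s₁ hs₁T hs₁Q a₁ ha₁ hcomm with h | h
      · have h' : a₁ ∈ Zs H T ⊓ Subgroup.centralizer (H : Set G) := h
        exact (Subgroup.mem_centralizer_iff.mp (Subgroup.mem_inf.mp h').2 t' (hA.hTH ht')).symm
      · have h' : a₁ * w ∈ Zs H T ⊓ Subgroup.centralizer (H : Set G) := h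
        have h1 : t' * (a₁ * w) = a₁ * w * t' :=
          Subgroup.mem_centralizer_iff.mp (Subgroup.mem_inf.mp h').2 t' (hA.hTH ht')
        have h2 := hL.w_T t' ht'
        calc a₁ * t' = a₁ * (t' * w) * w⁻¹ := by group
          _ = a₁ * (w * t') * w⁻¹ := by rw [h2]
          _ = (a₁ * w * t') * w⁻¹ := by group
          _ = t' * (a₁ * w) * w⁻¹ := by rw [h1]
          _ = t' * a₁ := by group
    have ha₁T : a₁ ∈ T := hA.hQT (hZF.le_Q ha₁)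
    have ha₁sq := hZF.sq a₁ ha₁
    have hvT : x * a₁ * x⁻¹ ∈ T := hA.hxT a₁ ha₁T
    have hv2 : (x * a₁ * x⁻¹) * (x * a₁ * x⁻¹) = 1 := by
      have : (x * a₁ * x⁻¹) * (x * a₁ * x⁻¹) = x * (a₁ * a₁) * x⁻¹ := by group
      rw [this, ha₁sq]; group
    have hvc : ∀ t' ∈ T, (x * a₁ * x⁻¹) * t' = t' * (x * a₁ * x⁻¹) := by
      intro t' ht'
      have h3 := hcentT (x⁻¹ * t' * x) (hxT' t' ht')
      calc x * a₁ * x⁻¹ * t' = x * (a₁ * (x⁻¹ * t' * x)) * x⁻¹ := by group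
        _ = x * ((x⁻¹ * t' * x) * a₁) * x⁻¹ := by rw [h3]
        _ = t' * (x * a₁ * x⁻¹) := by group
    have hvZ : x * a₁ * x⁻¹ ∈ Zs H T := hZF.gen _ hvT hv2 hvc
    have hyZ := hZF.conj_H j hjH _ hvZ
    have h4 := hZxQ hyZ
    rw [mem_cj] at h4
    have h5 : x⁻¹ * (j * x * a₁ * (j * x)⁻¹) * x =
        x⁻¹ * (j * (x * a₁ * x⁻¹) * j⁻¹) * x := by group
    rw [h5]; exact h4
  -- the critical word giving y
  obtain ⟨m₀, hm₀⟩ : ∃ m₀, m₀ = (x * x)⁻¹ * j⁻¹ := ⟨_, rfl⟩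
  have hm₀H : m₀ ∈ H := by rw [hm₀]; exact H.mul_mem (H.inv_mem hxxH) hjinvH
  have hm₀T : m₀ ∉ T := by
    intro h
    apply hjinvT
    have : j⁻¹ = (x * x) * m₀ := by rw [hm₀]; group
    rw [this]; exact T.mul_mem hxxT h
  obtain ⟨z₀, hz₀Z, hz₀⟩ := SetLike.not_le_iff_exists.mp (hcritAll m₀ hm₀H hm₀T)
  rw [mem_cj] at hz₀
  have hy_not : x⁻¹ * (j * x * z₀ * (j * x)⁻¹) * x ∉ Q := by
    have : x⁻¹ * (j * x * z₀ * (j * x)⁻¹) * x = (x * m₀ * x)⁻¹ * z₀ * (x * m₀ * x) := by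
      rw [hm₀]; group
    rw [this]; exact hz₀
  have hz₀2 : z₀ * z₀ = 1 := hZF.sq z₀ hz₀Z
  have hz₀inv : z₀⁻¹ = z₀ := inv_eq_of_mul_eq_one_right hz₀2
  obtain ⟨Y, hY⟩ : ∃ Y, Y = j * x * z₀ * (j * x)⁻¹ := ⟨_, rfl⟩
  have hYQ : Y ∈ Q := by
    have h1 := hA.hQn j hjH _ (hxZQ z₀ hz₀Z)
    have h2 : Y = j * (x * z₀ * x⁻¹) * j⁻¹ := by rw [hY]; group
    rw [h2]; exact h1
  have hYT : Y ∈ T := hA.hQT hYQ
  have hY2 : Y * Y = 1 := by
    have : Y * Y = (j * x) * (z₀ * z₀) * (j * x)⁻¹ := by rw [hY]; group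
    rw [this, hz₀2]; group
  have hYnot : x⁻¹ * Y * x ∉ Q := by rw [hY]; exact hy_not
  have hYxT : x⁻¹ * Y * x ∈ T := hxT' Y hYT
  -- the element t
  obtain ⟨g, hg⟩ : ∃ g, g = x * j * x := ⟨_, rfl⟩
  have hgW : g ∈ Wd H x 1 := by rw [hg]; exact hWd1 j hjH
  have hgc : ¬ Zs H T ≤ cj g Q := by rw [hg]; exact hcritAll j hjH hjT
  have hCRg := hCR g hgW hgc
  have hC7g := hC7 g hgW hgc
  obtain ⟨t, htg, htQ⟩ := SetLike.not_le_iff_exists.mp hCRg.gZ_not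
  have htT : t ∈ T := hCRg.gZ_le htg
  obtain ⟨t₀, ht₀⟩ : ∃ t₀, t₀ = g⁻¹ * t * g := ⟨_, rfl⟩
  have ht₀Z : t₀ ∈ Zs H T := by rw [ht₀]; exact mem_cj.mp htg
  have ht₀2 : t₀ * t₀ = 1 := hZF.sq t₀ ht₀Z
  have ht₀inv : t₀⁻¹ = t₀ := inv_eq_of_mul_eq_one_right ht₀2
  have ht2 : t * t = 1 := by
    have : t * t = g * (t₀ * t₀) * g⁻¹ := by rw [ht₀]; group
    rw [this, ht₀2]; group
  -- the word g' = τ⁻¹ t τ
  obtain ⟨m, hm⟩ : ∃ m, m = (x * x)⁻¹ * j⁻¹ * t * j := ⟨_, rfl⟩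
  have hmH : m ∈ H := by
    rw [hm]
    exact H.mul_mem (H.mul_mem (H.mul_mem (H.inv_mem hxxH) hjinvH) (hA.hTH htT)) hjH
  have hmT : m ∉ T := by
    intro h
    apply htQ
    apply hZF.inter j⁻¹ hjinvH hjinvT t htT
    have : j⁻¹ * t * j⁻¹⁻¹ = (x * x) * m := by rw [hm]; group
    rw [this]; exact T.mul_mem hxxT h
  obtain ⟨g', hg'⟩ : ∃ g', g' = x * m * x := ⟨_, rfl⟩
  have hg'W : g' ∈ Wd H x 1 := by rw [hg']; exact hWd1 m hmH
  have hg'c : ¬ Zs H T ≤ cj g' Q := by rw [hg']; exact hcritAll m hmH hmT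
  have hCRg' := hCR g' hg'W hg'c
  have hC7g' := hC7 g' hg'W hg'c
  have hg'eq : g' = (j * x)⁻¹ * t * (j * x) := by rw [hg', hm]; group
  have hg'2 : g' * g' = 1 := by
    have : g' * g' = (j * x)⁻¹ * (t * t) * (j * x) := by rw [hg'eq]; group
    rw [this, ht2]; group
  have hg'inv : g'⁻¹ = g' := inv_eq_of_mul_eq_one_right hg'2
  obtain ⟨s, hs⟩ : ∃ s, s = g' * z₀ * g'⁻¹ := ⟨_, rfl⟩
  have hsmem : s ∈ cj g' (Zs H T) := by rw [hs]; exact conj_mem_cj hz₀Z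
  have hsT : s ∈ T := hCRg'.gZ_le hsmem
  have hs2 : s * s = 1 := by
    have : s * s = g' * (z₀ * z₀) * g'⁻¹ := by rw [hs]; group
    rw [this, hz₀2]; group
  have hsinv : s⁻¹ = s := inv_eq_of_mul_eq_one_right hs2
  have hP := hC7g'.comm z₀ hz₀Z s hsmem
  -- (c): the commutator is not trivial
  have hPne : z₀ * s * z₀⁻¹ * s⁻¹ ≠ 1 := by
    intro hP1
    have hcomm : s * z₀ = z₀ * s := by
      have h1 : z₀ * s * z₀⁻¹ = s := mul_inv_eq_one.mp hP1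
      calc s * z₀ = (z₀ * s * z₀⁻¹) * z₀ := by rw [h1]
        _ = z₀ * s := by group
    by_cases hsQ : s ∈ Q
    · obtain ⟨t₃, ht₃mem, ht₃Q⟩ := SetLike.not_le_iff_exists.mp hCRg'.gZ_not
      have ht₃T : t₃ ∈ T := hCRg'.gZ_le ht₃mem
      obtain ⟨z₃, hz₃⟩ : ∃ z₃, z₃ = g'⁻¹ * t₃ * g' := ⟨_, rfl⟩
      have hz₃Z : z₃ ∈ Zs H T := by rw [hz₃]; exact mem_cj.mp ht₃mem
      have hq := hZF.comm_Q z₃ hz₃Z s hsQ
      have e1 : z₀ = g' * s * g'⁻¹ := by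
        rw [hs, hg'inv]
        calc z₀ = (g' * g') * z₀ * (g' * g') := by rw [hg'2]; group
          _ = g' * (g' * z₀ * g') * g' := by group
      have e2 : t₃ = g' * z₃ * g'⁻¹ := by rw [hz₃]; group
      have hcomm3 : t₃ * z₀ = z₀ * t₃ := by
        calc t₃ * z₀ = (g' * z₃ * g'⁻¹) * (g' * s * g'⁻¹) := by rw [← e2, ← e1]
          _ = g' * (z₃ * s) * g'⁻¹ := by group
          _ = g' * (s * z₃) * g'⁻¹ := by rw [hq]
          _ = (g' * s * g'⁻¹) * (g' * z₃ * g'⁻¹) := by group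
          _ = z₀ * t₃ := by rw [← e2, ← e1]
      exact hy_not (hFIX z₀ hz₀Z t₃ ht₃T ht₃Q hcomm3)
    · exact hy_not (hFIX z₀ hz₀Z s hsT hsQ hcomm)
  have hPw : z₀ * s * z₀⁻¹ * s⁻¹ = w := by
    rcases hP with h | h
    · exact absurd h hPne
    · exact h
  -- the element e = y t, computed in τ-coordinates
  obtain ⟨e, he⟩ : ∃ e, e = Y * t := ⟨_, rfl⟩
  have heτ : e = (j * x) * (z₀ * g') * (j * x)⁻¹ := by rw [he, hY, hg'eq]; group
  have hK1 : (z₀ * g') * (z₀ * g') * ((z₀ * g') * (z₀ * g')) = w := by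
    rw [← hPw, hz₀inv, hsinv, hs, hg'inv]
    group
  have he4τ : e * e * (e * e) = x * w * x⁻¹ := by
    rw [heτ, conj_four, hK1]
    have hcj := hcC j hjH
    calc j * x * w * (j * x)⁻¹ = (j * (x * w * x⁻¹)) * j⁻¹ := by group
      _ = ((x * w * x⁻¹) * j) * j⁻¹ := by rw [hcj]
      _ = x * w * x⁻¹ := by group
  -- the same element in g-coordinates
  obtain ⟨m', hm'⟩ : ∃ m', m' = (x * x)⁻¹ * j⁻¹ * (x⁻¹ * Y * x) * j := ⟨_, rfl⟩
  have hm'H : m' ∈ H := by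
    rw [hm']
    exact H.mul_mem (H.mul_mem (H.mul_mem (H.inv_mem hxxH) hjinvH) (hA.hTH hYxT)) hjH
  have hm'T : m' ∉ T := by
    intro h
    apply hYnot
    apply hZF.inter j⁻¹ hjinvH hjinvT (x⁻¹ * Y * x) hYxT
    have : j⁻¹ * (x⁻¹ * Y * x) * j⁻¹⁻¹ = (x * x) * m' := by rw [hm']; group
    rw [this]; exact T.mul_mem hxxT h
  obtain ⟨g'', hg''⟩ : ∃ g'', g'' = x * m' * x := ⟨_, rfl⟩
  have hg''W : g'' ∈ Wd H x 1 := by rw [hg'']; exact hWd1 m' hm'H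
  have hg''c : ¬ Zs H T ≤ cj g'' Q := by rw [hg'']; exact hcritAll m' hm'H hm'T
  have hC7g'' := hC7 g'' hg''W hg''c
  have hg''eq : g'' = g⁻¹ * Y * g := by rw [hg'', hm', hg]; group
  have hg''2 : g'' * g'' = 1 := by
    have : g'' * g'' = g⁻¹ * (Y * Y) * g := by rw [hg''eq]; group
    rw [this, hY2]; group
  have hg''inv : g''⁻¹ = g'' := inv_eq_of_mul_eq_one_right hg''2
  obtain ⟨s'', hs''⟩ : ∃ s'', s'' = g'' * t₀ * g''⁻¹ := ⟨_, rfl⟩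
  have hs''mem : s'' ∈ cj g'' (Zs H T) := by rw [hs'']; exact conj_mem_cj ht₀Z
  have hs''2 : s'' * s'' = 1 := by
    have : s'' * s'' = g'' * (t₀ * t₀) * g''⁻¹ := by rw [hs'']; group
    rw [this, ht₀2]; group
  have hs''inv : s''⁻¹ = s'' := inv_eq_of_mul_eq_one_right hs''2
  have hP'' := hC7g''.comm t₀ ht₀Z s'' hs''mem
  have heg : e = g * (g'' * t₀) * g⁻¹ := by rw [he, hg''eq, ht₀]; group
  have hK2a : (g'' * t₀) * (g'' * t₀) * ((g'' * t₀) * (g'' * t₀)) = s'' * t₀ * (s'' * t₀) := by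
    rw [hs'', hg''inv]; group
  have hK2b : s'' * t₀ * (s'' * t₀) = (t₀ * s'' * t₀⁻¹ * s''⁻¹)⁻¹ := by
    have : (t₀ * s'' * t₀⁻¹ * s''⁻¹)⁻¹ = s'' * t₀ * s''⁻¹ * t₀⁻¹ := by group
    rw [this, hs''inv, ht₀inv]; group
  have he4g : e * e * (e * e) =
      g * ((g'' * t₀) * (g'' * t₀) * ((g'' * t₀) * (g'' * t₀))) * g⁻¹ := by
    rw [heg, conj_four]
  rw [hK2a, hK2b] at he4g
  rcases hP'' with h | h
  · rw [h] at he4g
    apply hc1
    rw [← he4τ, he4g]; group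
  · rw [h, hwinv] at he4g
    apply hcw
    rw [← he4τ, he4g]
    have hgw := hC7g.cent
    calc g * w * g⁻¹ = (w * g) * g⁻¹ := by rw [hgw]
      _ = w := by group

end Cfsg.Agent.Lib.Helper47.Sym
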