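/-
Package B2B of the two-type S3-amalgam lemma (helper71's `Sym/BDefs.lean`):
the critical index `1` (`b = 2`) is impossible.  Port of `Sym/B2.lean` (no flip).
-/
import Cfsg.Agent.Lib.Helper71.Sym.BWords

set_option autoImplicit false

namespace Cfsg.Agent.Lib.Helper47.Sym

open Cfsg.Agent.Lib.Helper71.Sym

universe u

/-- The "fourth power" `e e (e e)` of a conjugate (two-type copy). -/
theorem conj_four' {G : Type*} [Group G] (a e : G) :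
    (a * e * a⁻¹) * (a * e * a⁻¹) * ((a * e * a⁻¹) * (a * e * a⁻¹)) =
      a * (e * e * (e * e)) * a⁻¹ := by
  group

/-- The square trick for two vertex types, without words. -/
theorem b2_core {G : Type u} [Group G] (H₁ H₂ T Q₁ Q₂ : Subgroup G) (w₁ w₂ : G)
    (hZF₁ : ZF H₁ T Q₁) (hZF₂ : ZF H₂ T Q₂) (hL₁ : Loc H₁ T Q₁ w₁) (hL₂ : Loc H₂ T Q₂ w₂)
    (hQn₂ : ∀ h ∈ H₂, ∀ q ∈ Q₂, h * q * h⁻¹ ∈ Q₂)
    (hQT₁ : Q₁ ≤ T) (hQT₂ : Q₂ ≤ T) (hTH₁ : T ≤ H₁) (hTH₂ : T ≤ H₂)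
    (adj₁ : Zs H₁ T ≤ Q₂) (adj₂ : Zs H₂ T ≤ Q₁)
    (star₂ : ∀ a ∈ H₂, a ∉ T → ¬ Zs H₁ T ≤ cj a Q₁)
    (gZle₁ : ∀ h ∈ H₁, h ∉ T → cj h (Zs H₂ T) ≤ T)
    (gZnot₁ : ∀ h ∈ H₁, h ∉ T → ¬ cj h (Zs H₂ T) ≤ Q₂)
    (gZle₂ : ∀ a ∈ H₂, a ∉ T → cj a (Zs H₁ T) ≤ T)
    (gZnot₂ : ∀ a ∈ H₂, a ∉ T → ¬ cj a (Zs H₁ T) ≤ Q₁)
    (c7₁ : ∀ h ∈ H₁, h ∉ T → ∀ x ∈ Zs H₂ T, ∀ t' ∈ cj h (Zs H₂ T),
      x * t' * x⁻¹ * t'⁻¹ = 1 ∨ x * t' * x⁻¹ * t'⁻¹ = w₂)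
    (c7₂ : ∀ a ∈ H₂, a ∉ T → ∀ x ∈ Zs H₁ T, ∀ t' ∈ cj a (Zs H₁ T),
      x * t' * x⁻¹ * t'⁻¹ = 1 ∨ x * t' * x⁻¹ * t'⁻¹ = w₁)
    (hc₁ : w₁ ∈ Cs H₂ T) (hc₂ : w₂ ∈ Cs H₁ T) : False := by
  have hcC₁ : ∀ p ∈ H₂, p * w₁ = w₁ * p := by
    have h2 : w₁ ∈ Subgroup.centralizer (H₂ : Set G) := (Subgroup.mem_inf.1 hc₁).2
    rw [Subgroup.mem_centralizer_iff] at h2
    exact h2
  have hcC₂ : ∀ p ∈ H₁, p * w₂ = w₂ * p := by
    have h2 : w₂ ∈ Subgroup.centralizer (H₁ : Set G) := (Subgroup.mem_inf.1 hc₂).2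
    rw [Subgroup.mem_centralizer_iff] at h2
    exact h2
  have hw₂2 : w₂ * w₂ = 1 := hZF₂.sq w₂ hL₂.w_mem
  have hw₂inv : w₂⁻¹ = w₂ := inv_eq_of_mul_eq_one_right hw₂2
  -- letters outside `T`
  obtain ⟨a, haH, _, _, haT, _, _⟩ := hZF₂.two_cosets
  obtain ⟨h, hhH, _, _, hhT, _, _⟩ := hZF₁.two_cosets
  have hainvT : a⁻¹ ∉ T := fun h' => haT (by simpa using T.inv_mem h')
  have hainvH : a⁻¹ ∈ H₂ := H₂.inv_mem haH
  have hhinvT : h⁻¹ ∉ T := fun h' => hhT (by simpa using T.inv_mem h')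
  have hhinvH : h⁻¹ ∈ H₁ := H₁.inv_mem hhH
  -- FIX lemma
  have hFIX : ∀ z₁ ∈ Zs H₁ T, ∀ s₁ ∈ T, s₁ ∉ Q₁ → s₁ * z₁ = z₁ * s₁ →
      a * z₁ * a⁻¹ ∈ Q₁ := by
    intro z₁ hz₁ s₁ hs₁T hs₁Q hcomm
    have hcentT : ∀ t' ∈ T, z₁ * t' = t' * z₁ := by
      intro t' ht'
      rcases hL₁.fix_T s₁ hs₁T hs₁Q z₁ hz₁ hcomm with h' | h'
      · have h'' : z₁ ∈ Zs H₁ T ⊓ Subgroup.centralizer (H₁ : Set G) := h'
        exact (Subgroup.mem_centralizer_iff.mp (Subgroup.mem_inf.mp h'').2 t' (hTH₁ ht')).symm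
      · have h'' : z₁ * w₁ ∈ Zs H₁ T ⊓ Subgroup.centralizer (H₁ : Set G) := h'
        have h1 : t' * (z₁ * w₁) = z₁ * w₁ * t' :=
          Subgroup.mem_centralizer_iff.mp (Subgroup.mem_inf.mp h'').2 t' (hTH₁ ht')
        have h2 := hL₁.w_T t' ht'
        calc z₁ * t' = z₁ * (t' * w₁) * w₁⁻¹ := by group
          _ = z₁ * (w₁ * t') * w₁⁻¹ := by rw [h2]
          _ = (z₁ * w₁ * t') * w₁⁻¹ := by group
          _ = t' * (z₁ * w₁) * w₁⁻¹ := by rw [h1]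
          _ = t' * z₁ := by group
    have hz₁T : z₁ ∈ T := hQT₁ (hZF₁.le_Q hz₁)
    have hz₁sq := hZF₁.sq z₁ hz₁
    have hz₁Z₂ : z₁ ∈ Zs H₂ T := hZF₂.gen z₁ hz₁T hz₁sq hcentT
    exact adj₂ (hZF₂.conj_H a haH z₁ hz₁Z₂)
  -- the element `Y = a z₀ a⁻¹ ∈ Q₂ \ Q₁`
  obtain ⟨z₀, hz₀Z, hz₀⟩ := SetLike.not_le_iff_exists.mp (star₂ a⁻¹ hainvH hainvT)
  rw [mem_cj] at hz₀
  have hy_not : a * z₀ * a⁻¹ ∉ Q₁ := by
    have : a * z₀ * a⁻¹ = a⁻¹⁻¹ * z₀ * a⁻¹ := by group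
    rw [this]; exact hz₀
  have hz₀2 : z₀ * z₀ = 1 := hZF₁.sq z₀ hz₀Z
  have hz₀inv : z₀⁻¹ = z₀ := inv_eq_of_mul_eq_one_right hz₀2
  obtain ⟨Y, hY⟩ : ∃ Y, Y = a * z₀ * a⁻¹ := ⟨_, rfl⟩
  have hYQ₂ : Y ∈ Q₂ := by rw [hY]; exact hQn₂ a haH z₀ (adj₁ hz₀Z)
  have hYT : Y ∈ T := hQT₂ hYQ₂
  have hY2 : Y * Y = 1 := by
    have : Y * Y = a * (z₀ * z₀) * a⁻¹ := by rw [hY]; group
    rw [this, hz₀2]; group
  have hYnot : Y ∉ Q₁ := by rw [hY]; exact hy_not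
  -- the element `t`
  obtain ⟨t, htg, htQ⟩ := SetLike.not_le_iff_exists.mp (gZnot₁ h hhH hhT)
  have htT : t ∈ T := gZle₁ h hhH hhT htg
  obtain ⟨t₀, ht₀⟩ : ∃ t₀, t₀ = h⁻¹ * t * h := ⟨_, rfl⟩
  have ht₀Z : t₀ ∈ Zs H₂ T := by rw [ht₀]; exact mem_cj.mp htg
  have ht₀2 : t₀ * t₀ = 1 := hZF₂.sq t₀ ht₀Z
  have ht₀inv : t₀⁻¹ = t₀ := inv_eq_of_mul_eq_one_right ht₀2
  have ht2 : t * t = 1 := by
    have : t * t = h * (t₀ * t₀) * h⁻¹ := by rw [ht₀]; group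
    rw [this, ht₀2]; group
  -- the word `m = a⁻¹ t a`
  obtain ⟨m, hm⟩ : ∃ m, m = a⁻¹ * t * a := ⟨_, rfl⟩
  have hmH : m ∈ H₂ := by
    rw [hm]; exact H₂.mul_mem (H₂.mul_mem hainvH (hTH₂ htT)) haH
  have hmT : m ∉ T := by
    intro h'
    apply htQ
    apply hZF₂.inter a⁻¹ hainvH hainvT t htT
    have : a⁻¹ * t * a⁻¹⁻¹ = m := by rw [hm]; group
    rw [this]; exact h'
  have hm2 : m * m = 1 := by
    have : m * m = a⁻¹ * (t * t) * a := by rw [hm]; group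
    rw [this, ht2]; group
  have hminv : m⁻¹ = m := inv_eq_of_mul_eq_one_right hm2
  obtain ⟨s, hs⟩ : ∃ s, s = m * z₀ * m⁻¹ := ⟨_, rfl⟩
  have hsmem : s ∈ cj m (Zs H₁ T) := by rw [hs]; exact conj_mem_cj hz₀Z
  have hsT : s ∈ T := gZle₂ m hmH hmT hsmem
  have hs2 : s * s = 1 := by
    have : s * s = m * (z₀ * z₀) * m⁻¹ := by rw [hs]; group
    rw [this, hz₀2]; group
  have hsinv : s⁻¹ = s := inv_eq_of_mul_eq_one_right hs2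
  have hP := c7₂ m hmH hmT z₀ hz₀Z s hsmem
  -- (c): the commutator is not trivial
  have hPne : z₀ * s * z₀⁻¹ * s⁻¹ ≠ 1 := by
    intro hP1
    have hcomm : s * z₀ = z₀ * s := by
      have h1 : z₀ * s * z₀⁻¹ = s := mul_inv_eq_one.mp hP1
      calc s * z₀ = (z₀ * s * z₀⁻¹) * z₀ := by rw [h1]
        _ = z₀ * s := by group
    by_cases hsQ : s ∈ Q₁
    · obtain ⟨t₃, ht₃mem, ht₃Q⟩ := SetLike.not_le_iff_exists.mp (gZnot₂ m hmH hmT)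
      have ht₃T : t₃ ∈ T := gZle₂ m hmH hmT ht₃mem
      obtain ⟨z₃, hz₃⟩ : ∃ z₃, z₃ = m⁻¹ * t₃ * m := ⟨_, rfl⟩
      have hz₃Z : z₃ ∈ Zs H₁ T := by rw [hz₃]; exact mem_cj.mp ht₃mem
      have hq := hZF₁.comm_Q z₃ hz₃Z s hsQ
      have e1 : z₀ = m * s * m⁻¹ := by
        rw [hs, hminv]
        calc z₀ = (m * m) * z₀ * (m * m) := by rw [hm2]; group
          _ = m * (m * z₀ * m) * m := by group
      have e2 : t₃ = m * z₃ * m⁻¹ := by rw [hz₃]; group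
      have hcomm3 : t₃ * z₀ = z₀ * t₃ := by
        calc t₃ * z₀ = (m * z₃ * m⁻¹) * (m * s * m⁻¹) := by rw [← e2, ← e1]
          _ = m * (z₃ * s) * m⁻¹ := by group
          _ = m * (s * z₃) * m⁻¹ := by rw [hq]
          _ = (m * s * m⁻¹) * (m * z₃ * m⁻¹) := by group
          _ = z₀ * t₃ := by rw [← e2, ← e1]
      exact hy_not (hFIX z₀ hz₀Z t₃ ht₃T ht₃Q hcomm3)
    · exact hy_not (hFIX z₀ hz₀Z s hsT hsQ hcomm)
  have hPw : z₀ * s * z₀⁻¹ * s⁻¹ = w₁ := by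
    rcases hP with h' | h'
    · exact absurd h' hPne
    · exact h'
  -- the element `e = Y t`, computed in `a`-coordinates
  obtain ⟨e, he⟩ : ∃ e, e = Y * t := ⟨_, rfl⟩
  have hea : e = a * (z₀ * m) * a⁻¹ := by rw [he, hY, hm]; group
  have hK1 : (z₀ * m) * (z₀ * m) * ((z₀ * m) * (z₀ * m)) = w₁ := by
    rw [← hPw, hz₀inv, hsinv, hs, hminv]
    group
  have he4a : e * e * (e * e) = w₁ := by
    rw [hea, conj_four', hK1]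
    have hcj := hcC₁ a haH
    calc a * w₁ * a⁻¹ = (w₁ * a) * a⁻¹ := by rw [hcj]
      _ = w₁ := by group
  -- the same element in `h`-coordinates
  obtain ⟨m', hm'⟩ : ∃ m', m' = h⁻¹ * Y * h := ⟨_, rfl⟩
  have hm'H : m' ∈ H₁ := by
    rw [hm']; exact H₁.mul_mem (H₁.mul_mem hhinvH (hTH₁ hYT)) hhH
  have hm'T : m' ∉ T := by
    intro h'
    apply hYnot
    apply hZF₁.inter h⁻¹ hhinvH hhinvT Y hYT
    have : h⁻¹ * Y * h⁻¹⁻¹ = m' := by rw [hm']; group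
    rw [this]; exact h'
  have hm'2 : m' * m' = 1 := by
    have : m' * m' = h⁻¹ * (Y * Y) * h := by rw [hm']; group
    rw [this, hY2]; group
  have hm'inv : m'⁻¹ = m' := inv_eq_of_mul_eq_one_right hm'2
  obtain ⟨s'', hs''⟩ : ∃ s'', s'' = m' * t₀ * m'⁻¹ := ⟨_, rfl⟩
  have hs''mem : s'' ∈ cj m' (Zs H₂ T) := by rw [hs'']; exact conj_mem_cj ht₀Z
  have hs''2 : s'' * s'' = 1 := by
    have : s'' * s'' = m' * (t₀ * t₀) * m'⁻¹ := by rw [hs'']; group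
    rw [this, ht₀2]; group
  have hs''inv : s''⁻¹ = s'' := inv_eq_of_mul_eq_one_right hs''2
  have hP'' := c7₁ m' hm'H hm'T t₀ ht₀Z s'' hs''mem
  have heh : e = h * (m' * t₀) * h⁻¹ := by rw [he, hm', ht₀]; group
  have hK2a : (m' * t₀) * (m' * t₀) * ((m' * t₀) * (m' * t₀)) = s'' * t₀ * (s'' * t₀) := by
    rw [hs'', hm'inv]; group
  have hK2b : s'' * t₀ * (s'' * t₀) = (t₀ * s'' * t₀⁻¹ * s''⁻¹)⁻¹ := by
    have : (t₀ * s'' * t₀⁻¹ * s''⁻¹)⁻¹ = s'' * t₀ * s''⁻¹ * t₀⁻¹ := by group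
    rw [this, hs''inv, ht₀inv]; group
  have he4h : e * e * (e * e) =
      h * ((m' * t₀) * (m' * t₀) * ((m' * t₀) * (m' * t₀))) * h⁻¹ := by
    rw [heh, conj_four']
  rw [hK2a, hK2b] at he4h
  rcases hP'' with h' | h'
  · rw [h'] at he4h
    apply hL₁.w_ne
    rw [← he4a, he4h]; group
  · rw [h', hw₂inv] at he4h
    -- `w₁ = h w₂ h⁻¹ = w₂`
    have hw12 : w₁ = w₂ := by
      rw [← he4a, he4h]
      have hcj := hcC₂ h hhH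
      calc h * w₂ * h⁻¹ = (w₂ * h) * h⁻¹ := by rw [hcj]
        _ = w₂ := by group
    apply haT
    apply hL₂.w_cent a haH
    rw [← hw12]
    exact hcC₁ a haH

theorem ty_one (j : Bool) : ty j 1 = !j := by
  cases j <;> rfl

theorem pkgB2B : PkgB2B.{u} := by
  intro G _ P T Q hA hZF w hLoc hk hCR hC7 hSB hc
  -- all one-letter words outside `T` are critical, for both types
  have hslide : ∀ i, ∀ h ∈ P i, ¬ Zs (P (!i)) T ≤ cj h (Q (!i)) →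
      ∀ a ∈ P (!i), a ∉ T → ¬ Zs (P i) T ≤ cj a (Q i) := by
    intro i h hh hnot a ha haT
    have h1 := hSB i 1 (bw_zero.2 rfl) h (by simpa using hh)
      (by simpa [ty_one] using hnot) a ha haT
    simpa using h1
  have hstar : ∀ i, ∀ h ∈ P i, h ∉ T → ¬ Zs (P (!i)) T ≤ cj h (Q (!i)) := by
    obtain ⟨j₀, g₀, hg₀W, hg₀⟩ := hk.1
    obtain ⟨h₀, hh₀, u₀, hu₀, rfl⟩ := bw_succ.1 hg₀W
    rw [bw_zero] at hu₀
    subst hu₀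
    rw [ty_one, mul_one] at hg₀
    -- type `!j₀` words
    have h1 : ∀ a ∈ P (!j₀), a ∉ T → ¬ Zs (P j₀) T ≤ cj a (Q j₀) :=
      hslide j₀ h₀ hh₀ hg₀
    obtain ⟨a₀, ha₀, _, _, ha₀T, _, _⟩ := (hZF (!j₀)).two_cosets
    have h2 : ∀ h ∈ P j₀, h ∉ T → ¬ Zs (P (!j₀)) T ≤ cj h (Q (!j₀)) := by
      have := hslide (!j₀) a₀ ha₀ (by simpa using h1 a₀ ha₀ ha₀T)
      simpa using this
    intro i
    by_cases hi : i = j₀
    · subst hi; exact h2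
    · have hi' : i = !j₀ := by
        cases i <;> cases j₀ <;> simp_all
      subst hi'
      simpa using h1
  have hcrit : ∀ i, ∀ h ∈ P i, h ∉ T → BCrit P T Q i 1 h := by
    intro i h hh hhT
    refine ⟨by simpa using bw_succ_mem hh (bw_zero.2 rfl), ?_⟩
    rw [ty_one]
    exact hstar i h hh hhT
  have hgZle : ∀ i, ∀ h ∈ P i, h ∉ T → cj h (Zs (P (!i)) T) ≤ T := by
    intro i h hh hhT
    have := (hCR i h (hcrit i h hh hhT)).gZ_le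
    rw [ty_one] at this
    exact this
  have hgZnot : ∀ i, ∀ h ∈ P i, h ∉ T → ¬ cj h (Zs (P (!i)) T) ≤ Q (!i) := by
    intro i h hh hhT
    have := (hCR i h (hcrit i h hh hhT)).gZ_not
    rw [ty_one] at this
    exact this
  have hc7 : ∀ i, ∀ h ∈ P i, h ∉ T → ∀ x ∈ Zs (P (!i)) T, ∀ t' ∈ cj h (Zs (P (!i)) T),
      x * t' * x⁻¹ * t'⁻¹ = 1 ∨ x * t' * x⁻¹ * t'⁻¹ = w (!i) := by
    intro i h hh hhT
    have := (hC7 i h (hcrit i h hh hhT)).comm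
    rw [ty_one] at this
    exact this
  exact b2_core (P true) (P false) T (Q true) (Q false) (w true) (w false)
    (hZF true) (hZF false) (hLoc true) (hLoc false)
    (hA.loc false).hQn (hA.loc true).hQT (hA.loc false).hQT (hA.loc true).hTH
    (hA.loc false).hTH
    (hk.adj true) (hk.adj false)
    (hstar false) (hgZle true) (hgZnot true) (hgZle false) (hgZnot false)
    (hc7 true) (hc7 false) (hc true) (hc false)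

end Cfsg.Agent.Lib.Helper47.Sym
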