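/-
Package C10B of the two-type S3-amalgam lemma (helper71's `Sym/BDefs.lean`):
for a critical word of type `j` (critical index `k + 1 ≥ 1`), `w j` is central in `P (!j)`.
-/
import Cfsg.Agent.Lib.Helper71.Sym.BWords

set_option autoImplicit false

namespace Cfsg.Agent.Lib.Helper47.Sym

open Cfsg.Agent.Lib.Helper71.Sym

universe u

theorem mem_Cs_comm {G : Type u} [Group G] {H T : Subgroup G} {c : G} (hc : c ∈ Cs H T) :
    ∀ p ∈ H, p * c = c * p := by
  have h2 : c ∈ Subgroup.centralizer (H : Set G) := (Subgroup.mem_inf.1 hc).2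
  rw [Subgroup.mem_centralizer_iff] at h2
  exact h2

theorem pkgC10B : PkgC10B.{u} := by
  intro G _ P T Q hA hZF w hLoc k hk hCR hC7 hSB j hcrit
  obtain ⟨g, hgW, hgnot⟩ := hcrit
  obtain ⟨u, hu, h, hh, rfl⟩ := bw_right.1 hgW
  have hcr : BCRF P T Q j (k + 1) (u * h) := hCR j (u * h) ⟨hgW, hgnot⟩
  -- the transvection `t`
  obtain ⟨t, htZ, htQ⟩ := SetLike.not_le_iff_exists.1 hcr.gZ_not
  have htT : t ∈ T := hcr.gZ_le htZ
  -- a letter `a ∈ P (!j) \ T`
  obtain ⟨a, haP, _, _, haT, _, _⟩ := (hZF (!j)).two_cosets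
  -- the back slide of the critical word
  have hsl := hSB j u hu h hh hgnot a haP haT
  have hau : a * u ∈ BW P (!j) (k + 1) := bw_cons haP hu
  have hcrit2 : BCrit P T Q (!j) (k + 1) (a * u) := by
    refine ⟨hau, ?_⟩
    rw [ty_not_succ, Bool.not_not]
    exact hsl
  have hc7 := (hC7 (!j) (a * u) hcrit2).cent
  rw [ty_not_succ, Bool.not_not] at hc7
  -- `t` lies in `cj u (Q (ty j k))`
  have htQd : u⁻¹ * t * u ∈ Q (ty j k) := by
    have hadj : Zs (P (ty j (k + 1))) T ≤ Q (ty j k) := by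
      have := hk.adj (ty j (k + 1))
      rw [ty_succ, Bool.not_not] at this
      rw [ty_succ]; exact this
    have h1 : t ∈ cj (u * h) (Q (ty j k)) := cj_mono hadj (u * h) htZ
    rw [hA.cj_mul_Q u hh, mem_cj] at h1
    exact h1
  -- opaque names
  obtain ⟨wd, hwd⟩ : ∃ wd, wd = w (ty j k) := ⟨_, rfl⟩
  obtain ⟨wj, hwj⟩ : ∃ wj, wj = w j := ⟨_, rfl⟩
  obtain ⟨ws, hws⟩ : ∃ ws, ws = w (!j) := ⟨_, rfl⟩
  rw [← hwd, ← hwj] at hc7
  have hwdZ : wd ∈ Zs (P (ty j k)) T := by rw [hwd]; exact (hLoc (ty j k)).w_mem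
  have hcomm : wd * (u⁻¹ * t * u) = (u⁻¹ * t * u) * wd :=
    (hZF (ty j k)).comm_Q wd hwdZ _ htQd
  -- `r' = a⁻¹ wj a = u wd u⁻¹` commutes with `t`
  have hr : a⁻¹ * wj * a = u * wd * u⁻¹ := by rw [← hc7]; group
  have htr : t * (a⁻¹ * wj * a) = (a⁻¹ * wj * a) * t := by
    rw [hr]
    have e1 : t * (u * wd * u⁻¹) = u * ((u⁻¹ * t * u) * wd) * u⁻¹ := by group
    rw [e1, ← hcomm]; group
  -- `wj` is an involution of `Z(T)`, hence lies in `Z (!j)`
  have hwjZj : wj ∈ Zs (P j) T := by rw [hwj]; exact (hLoc j).w_mem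
  have hwjT : wj ∈ T := (hA.loc j).hQT ((hZF j).le_Q hwjZj)
  have hwjsq : wj * wj = 1 := (hZF j).sq wj hwjZj
  have hwjc : ∀ x ∈ T, x * wj = wj * x := by rw [hwj]; exact (hLoc j).w_T
  have hwjZs : wj ∈ Zs (P (!j)) T :=
    (hZF (!j)).gen wj hwjT hwjsq (fun x hx => (hwjc x hx).symm)
  have hrZs : a⁻¹ * wj * a ∈ Zs (P (!j)) T := by
    have := (hZF (!j)).conj_H a⁻¹ ((P (!j)).inv_mem haP) wj hwjZs
    simpa using this
  have hwsZ : ws ∈ Zs (P (!j)) T := by rw [hws]; exact (hLoc (!j)).w_mem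
  have hwssq : ws * ws = 1 := (hZF (!j)).sq ws hwsZ
  have hfix1 := (hLoc (!j)).fix_T t htT htQ wj hwjZs (hwjc t htT)
  have hfix2 := (hLoc (!j)).fix_T t htT htQ (a⁻¹ * wj * a) hrZs htr
  rw [← hws] at hfix1 hfix2
  rw [← hwj]
  rcases hfix1 with hdone | hc1
  · exact hdone
  · exfalso
    -- `c1 = wj * ws` is central in `P (!j)`
    obtain ⟨c1, hc1def⟩ : ∃ c1, c1 = wj * ws := ⟨_, rfl⟩
    rw [← hc1def] at hc1
    have hwj' : wj = c1 * ws := by
      rw [hc1def, mul_assoc, hwssq, mul_one]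
    have hc1cent : ∀ p ∈ P (!j), p * c1 = c1 * p := mem_Cs_comm hc1
    obtain ⟨x, hx⟩ : ∃ x, x = a⁻¹ * ws * a := ⟨_, rfl⟩
    have hrx : a⁻¹ * wj * a = c1 * x := by
      rw [hwj', hx]
      have e1 : a⁻¹ * (c1 * ws) * a = (a⁻¹ * c1) * ws * a := by group
      rw [e1, hc1cent a⁻¹ ((P (!j)).inv_mem haP)]; group
    have hxZ : x ∈ Zs (P (!j)) T := by
      have := (hZF (!j)).conj_H a⁻¹ ((P (!j)).inv_mem haP) ws hwsZ
      rw [hx]; simpa using this
    rw [hrx] at hfix2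
    rcases hfix2 with h1 | h2
    · -- `x ∈ C`, so `ws` commutes with `a`, so `a ∈ T`
      have hxC : x ∈ Cs (P (!j)) T := by
        have := (Cs (P (!j)) T).mul_mem ((Cs (P (!j)) T).inv_mem hc1) h1
        simpa using this
      have hax : a * x = x * a := mem_Cs_comm hxC a haP
      have hwsx : ws = a * x * a⁻¹ := by rw [hx]; group
      have hcomm2 : a * ws = ws * a := by
        rw [hwsx]
        calc a * (a * x * a⁻¹) = a * (a * x) * a⁻¹ := by group
          _ = a * (x * a) * a⁻¹ := by rw [hax]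
          _ = a * x * a⁻¹ * a := by group
      apply haT
      have := (hLoc (!j)).w_cent a haP
      rw [← hws] at this
      exact this hcomm2
    · -- `x * ws ∈ C` contradicts `Loc.indep`
      have hxw : x * ws ∈ Cs (P (!j)) T := by
        have := (Cs (P (!j)) T).mul_mem ((Cs (P (!j)) T).inv_mem hc1) h2
        have e : c1⁻¹ * (c1 * x * ws) = x * ws := by group
        rw [e] at this
        exact this
      have hind := (hLoc (!j)).indep a⁻¹ ((P (!j)).inv_mem haP)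
        (fun hc => haT (by simpa using T.inv_mem hc))
      rw [← hws] at hind
      apply hind
      have hcm : x * ws = ws * x :=
        (hZF (!j)).comm_Q x hxZ ws ((hZF (!j)).le_Q hwsZ)
      have e2 : ws * (a⁻¹ * ws * a⁻¹⁻¹) = ws * x := by rw [hx]; group
      rw [e2, ← hcm]
      exact hxw

end Cfsg.Agent.Lib.Helper47.Sym
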